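import Groth.Agent.Lib.HoCat.DerivedCoproduct
import Groth.Agent.Lib.TriCat.Compact
import Mathlib.Algebra.Homology.DerivedCategory.KProjective
import Mathlib.Algebra.Homology.HomotopyCategory.KProjective
import Mathlib.Algebra.Homology.Single
import Mathlib.CategoryTheory.Preadditive.Yoneda.Basic

/-!
# Compact projective objects are compact in the derived category
-/

set_option autoImplicit false
set_option linter.unusedSectionVars false
set_option linter.style.haveILetI false
set_option backward.isDefEq.respectTransparency false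

universe v u

open CategoryTheory CategoryTheory.Limits

namespace GrothLib.CompactSingle25

variable {A : Type u} [Category.{v} A] [Abelian A] [HasCoproducts.{v} A]

open Classical in
/-- The projection of a coproduct of complexes to finitely many summands. -/
noncomputable def suppC {ι : Type v} (K : ι → CochainComplex A ℤ) (s : Finset ι) : (∐ K) ⟶ ∐ K :=
  Sigma.desc fun j => if j ∈ s then Sigma.ι K j else 0

theorem ι_suppC {ι : Type v} [DecidableEq ι] (K : ι → CochainComplex A ℤ) (s : Finset ι) (j : ι) :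
    Sigma.ι K j ≫ suppC K s = if j ∈ s then Sigma.ι K j else 0 := by
  rw [suppC, Sigma.ι_desc]
  split_ifs <;> rfl

theorem exists_supp (P : A)
    [∀ ι : Type v, PreservesColimitsOfShape (Discrete ι) (preadditiveCoyoneda.obj (Opposite.op P))]
    {ι : Type v} (K : ι → CochainComplex A ℤ) (i : ℤ) (x : P ⟶ (∐ K).X i) :
    ∃ s : Finset ι, x ≫ (suppC K s).f i = x := by
  classical
  let H := HomologicalComplex.eval A (ComplexShape.up ℤ) i ⋙ preadditiveCoyoneda.obj (Opposite.op P)
  let M : AddSubgroup (H.obj (∐ K)) := AddSubgroup.closure (⋃ j, Set.range (H.map (Sigma.ι K j)))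
  let r : H.obj (∐ K) ⟶ AddCommGrpCat.of (H.obj (∐ K) ⧸ M) := AddCommGrpCat.ofHom (QuotientAddGroup.mk' M)
  have hr : r = 0 := by
    refine (isColimitOfPreserves H (coproductIsCoproduct K)).hom_ext
      fun ⟨j⟩ => ConcreteCategory.hom_ext _ _ fun t => ?_
    exact (QuotientAddGroup.eq_zero_iff _).2 (AddSubgroup.subset_closure (Set.mem_iUnion.2 ⟨j, t, rfl⟩))
  have mono : ∀ {s t : Finset ι}, s ⊆ t → suppC K s ≫ suppC K t = suppC K s := fun {s t} h => by
    refine Sigma.hom_ext _ _ fun j => ?_
    rw [← Category.assoc, ι_suppC]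
    split_ifs with hj
    · rw [ι_suppC, if_pos (h hj)]
    · rw [zero_comp]
  have hM : (x : H.obj (∐ K)) ∈ M :=
    (QuotientAddGroup.eq_zero_iff _).1 (ConcreteCategory.congr_hom hr x)
  induction hM using AddSubgroup.closure_induction with
  | mem y hy =>
    obtain ⟨j, t, rfl⟩ := Set.mem_iUnion.1 hy
    refine ⟨{j}, ?_⟩
    change (t ≫ (Sigma.ι K j).f i) ≫ _ = t ≫ (Sigma.ι K j).f i
    rw [Category.assoc, ← HomologicalComplex.comp_f, ι_suppC, if_pos (Finset.mem_singleton_self j)]
  | zero => exact ⟨∅, zero_comp⟩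
  | add y y' _ _ hy hy' =>
    obtain ⟨s, hs⟩ := hy
    obtain ⟨t, ht⟩ := hy'
    refine ⟨s ∪ t, (Preadditive.add_comp _ _ _ _ _ _).trans (congrArg₂ (· + ·) ?_ ?_)⟩
    · conv_lhs => rw [← hs]
      rw [Category.assoc, ← HomologicalComplex.comp_f, mono Finset.subset_union_left, hs]
    · conv_lhs => rw [← ht]
      rw [Category.assoc, ← HomologicalComplex.comp_f, mono Finset.subset_union_right, ht]
  | neg y _ hy =>
    obtain ⟨s, hs⟩ := hy
    exact ⟨s, (Preadditive.neg_comp _ _).trans (congrArg Neg.neg hs)⟩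

variable [AB4OfSize.{v} A] [HasDerivedCategory.{v} A] [HasCoproducts.{v} (DerivedCategory A)]

/-- A projective object whose maps commute with direct sums is compact in the derived category. -/
theorem isCompactObject_single (P : A) [Projective P]
    [∀ ι : Type v, PreservesColimitsOfShape (Discrete ι) (preadditiveCoyoneda.obj (Opposite.op P))] :
    CohDer.IsCompactObject ((DerivedCategory.singleFunctor A 0).obj P) := by
  classical
  rw [TriCat.isCompactObject_iff_hasFiniteSupport]
  intro ι X b
  let S : CochainComplex A ℤ := (HomologicalComplex.single A (ComplexShape.up ℤ) 0).obj P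
  haveI : ∀ n, Projective (S.X n) := fun n => by
    by_cases h : n = 0
    · subst h
      exact Projective.of_iso (HomologicalComplex.singleObjXSelf (ComplexShape.up ℤ) 0 P).symm inferInstance
    · exact (HomologicalComplex.isZero_single_obj_X (ComplexShape.up ℤ) 0 P n h).projective
  haveI : S.IsStrictlyLE 0 := by
    rw [CochainComplex.isStrictlyLE_iff]
    intro n hn
    exact HomologicalComplex.isZero_single_obj_X (ComplexShape.up ℤ) 0 P n (by omega)
  haveI : S.IsKProjective := CochainComplex.isKProjective_of_projective S 0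
  let K : ι → CochainComplex A ℤ := fun j => DerivedCategory.Q.objPreimage (X j)
  let Q := DerivedCategory.Q (C := A)
  let ej : ∀ j, Q.obj (K j) ≅ X j := fun j => Q.objObjPreimageIso (X j)
  let e : Q.obj (∐ K) ≅ ∐ X :=
    PreservesCoproduct.iso Q K ≪≫ Sigma.mapIso ej
  have hι : ∀ j, Q.map (Sigma.ι K j) ≫ e.hom = (ej j).hom ≫ Sigma.ι X j := fun j => by
    have h1 : Sigma.ι (fun j => Q.obj (K j)) j ≫ (PreservesCoproduct.iso Q K).inv = Q.map (Sigma.ι K j) := by
      rw [PreservesCoproduct.inv_hom, ι_comp_sigmaComparison]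
    refine (congrArg (· ≫ e.hom) h1.symm).trans ?_
    change (_ ≫ (PreservesCoproduct.iso Q K).inv) ≫ (PreservesCoproduct.iso Q K).hom ≫ (Sigma.mapIso ej).hom = _
    rw [Category.assoc, Iso.inv_hom_id_assoc]
    simp
  -- the projections agree
  have hs : ∀ s, Q.map (suppC K s) ≫ e.hom = e.hom ≫ TriCat.supp X s := fun s => by
    refine (isColimitOfPreserves Q (coproductIsCoproduct K)).hom_ext fun ⟨j⟩ => ?_
    change Q.map (Sigma.ι K j) ≫ _ = Q.map (Sigma.ι K j) ≫ _
    rw [reassoc_of% (hι j), TriCat.ι_supp, ← Functor.map_comp_assoc, ι_suppC]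
    split_ifs
    · rw [hι]
    · rw [Functor.map_zero, zero_comp, comp_zero]
  obtain ⟨φ, hφ⟩ : ∃ φ : S ⟶ ∐ K, Q.map φ = (show Q.obj S ⟶ ∐ X from b) ≫ e.inv := by
    obtain ⟨g, hg⟩ := (CochainComplex.IsKProjective.Qh_map_bijective S
      ((HomotopyCategory.quotient A (ComplexShape.up ℤ)).obj (∐ K))).2
      ((DerivedCategory.quotientCompQhIso A).hom.app S ≫ ((show Q.obj S ⟶ ∐ X from b) ≫ e.inv) ≫
        (DerivedCategory.quotientCompQhIso A).inv.app (∐ K))
    obtain ⟨φ, rfl⟩ := (HomotopyCategory.quotient A (ComplexShape.up ℤ)).map_surjective g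
    refine ⟨φ, ?_⟩
    rw [← cancel_epi ((DerivedCategory.quotientCompQhIso A).hom.app S)]
    have := (DerivedCategory.quotientCompQhIso A).hom.naturality φ
    refine this.symm.trans ?_
    rw [Functor.comp_map, hg]
    simp
    exact congrArg (b ≫ ·) (Category.comp_id _)
  obtain ⟨s, hx⟩ := exists_supp P K 0 ((HomologicalComplex.singleObjXSelf (ComplexShape.up ℤ) 0 P).inv ≫ φ.f 0)
  refine ⟨s, ?_⟩
  have hφs : φ ≫ suppC K s = φ := by
    refine HomologicalComplex.from_single_hom_ext ?_
    rw [← cancel_epi (HomologicalComplex.singleObjXSelf (ComplexShape.up ℤ) 0 P).inv, HomologicalComplex.comp_f,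
      ← Category.assoc, hx]
  have hb : b = Q.map φ ≫ e.hom := by
    rw [hφ, Category.assoc, e.inv_hom_id, Category.comp_id]
  rw [hb, Category.assoc, ← hs, ← Functor.map_comp_assoc, hφs]

end GrothLib.CompactSingle25
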